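import Cfsg.Agent.Lib.Spor.Leech.OddFix.Fusion
import Cfsg.Agent.Lib.Spor.Golay.PermConj
import Cfsg.Agent.Lib.Spor.Leech.OddFix.Mono
import Cfsg.Agent.Lib.Spor.Leech.FiveFix.Data

/-!
The classes of the rank 24 lattice modulo two fixed by a coordinate permutation of order five.
-/

set_option autoImplicit false
set_option maxRecDepth 100000

noncomputable section

namespace Cfsg.Agent.Spor.Leech.FiveFix

open Cfsg Cfsg.Agent.Spor.Leech.OddFix
open Cfsg.Agent.Spor.CoSuz (decV HasT)

theorem g5_checks : Golay.inM24 g5 = true ∧ Golay.valid g5 = true ∧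
    Nat.beq (Golay.PermConj.pw g5 5) Golay.idP = true ∧ Nat.beq (Golay.get g5 0) 0 = false := by decide +kernel

/-- The permutation. -/
def gen : Equiv.Perm GolayPt := Golay.permOf g5

theorem gen_mem : gen ∈ M24 := Golay.permOf_mem_M24 g5_checks.1

theorem pw_spec (k : ℕ) : Golay.valid (Golay.PermConj.pw g5 k) = true ∧ Golay.permOf (Golay.PermConj.pw g5 k) = gen ^ k :=
  Golay.PermConj.pw_spec g5_checks.2.1 k

theorem order_gen : orderOf gen = 5 := by
  haveI : Fact (Nat.Prime 5) := ⟨by norm_num⟩
  refine orderOf_eq_prime ?_ ?_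
  · rw [← (pw_spec 5).2, Nat.eq_of_beq_eq_true g5_checks.2.2.1, Golay.permOf_idP]
  · intro e
    have h := congrArg (fun p : Equiv.Perm GolayPt => Golay.idx (p (Golay.pt 0))) e
    simp only [gen, Golay.idx_permOf g5_checks.2.1, Equiv.Perm.one_apply, Golay.idx_pt (by norm_num : 0 < 24)] at h
    have h2 := g5_checks.2.2.2
    rw [h] at h2
    simp at h2

/-- The automorphism. -/
def P0 : Co0 := mono gen_mem empty_code

theorem bas_inL : ∀ k : Fin 8, inL (decV (bas.getD k 0)) = true := by decide +kernel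

/-- The basis. -/
def Bs (k : Fin 8) : leechLattice := mkV (bas.getD k 0) (bas_inL k)

/-- The inverse of the product matrix. -/
def Gi (i j : Fin 8) : ZMod 2 := if (giL.getD i 0).testBit j then 1 else 0

/-- Coordinates from a mask. -/
def bits (m : ℕ) (k : Fin 8) : ZMod 2 := if m.testBit k then 1 else 0

/-- The mask of coordinates. -/
def toMask (f : Fin 8 → ZMod 2) : ℕ :=
  ((List.finRange 8).map fun k : Fin 8 => if f k = 1 then 2 ^ (k : ℕ) else 0).sum

theorem bits_toMask : ∀ f : Fin 8 → ZMod 2, bits (toMask f) = f ∧ toMask f < 256 := by decide +kernel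

/-- The coordinates of a packed vector. -/
def coX (X : ℕ) (i : Fin 8) : ZMod 2 :=
  ∑ j : Fin 8, Gi i j * ((dotInt (decV X) (decV (bas.getD j 0)) / 8 : ℤ) : ZMod 2)

theorem co_mkV (v : leechLattice) (X : ℕ) (h : (v : Vec) = decV X) : co Bs Gi v = coX X := by
  funext i
  rw [co, h]
  rfl

/-- A packed vector is fixed. -/
def chkFixV (X : ℕ) : Bool :=
  decide (∀ q, decV X (Golay.pt (Golay.get g5 (Golay.idx q))) = decV X q)

theorem gen_apply (q : GolayPt) : gen q = Golay.pt (Golay.get g5 (Golay.idx q)) :=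
  Golay.idx_injective (by
    rw [gen, Golay.idx_permOf g5_checks.2.1,
      Golay.idx_pt ((Golay.valid_iff.mp g5_checks.2.1).2 _ (Golay.idx_lt q))])

theorem fixed_of_chk {X : ℕ} {v : leechLattice} (hv : (v : Vec) = decV X) (h : chkFixV X = true) : Fixed P0 v := by
  rw [chkFixV, decide_eq_true_eq] at h
  unfold Fixed
  have e : P0 • v = v := Subtype.ext (funext fun q => by
    rw [P0, mono_apply, signedPerm, if_neg (Finset.notMem_empty _), hv]
    have h1 := h (gen.symm q)
    rw [← gen_apply, Equiv.apply_symm_apply] at h1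
    exact h1.symm)
  rw [e]

theorem bas_fix : ∀ k : Fin 8, chkFixV (bas.getD k 0) = true := by decide +kernel

theorem gram_check : ∀ i k : Fin 8, coX (bas.getD k 0) i = if i = k then 1 else 0 := by decide +kernel

/-- The powers used for the sums. -/
def pinv (i : ℕ) : ℕ := Golay.PermConj.pw g5 (5 - i)

theorem pinv_spec : ∀ i < 5, ∀ q, Golay.pt (Golay.get (pinv i) (Golay.idx q)) = (gen ^ i).symm q := by
  intro i hi q
  obtain ⟨hv, hp⟩ := pw_spec (5 - i)
  have e : gen ^ (5 - i) = (gen ^ i)⁻¹ := by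
    refine eq_inv_of_mul_eq_one_right ?_
    rw [← pow_add, Nat.add_sub_cancel' hi.le, ← order_gen, pow_orderOf_eq_one]
  refine Golay.idx_injective ?_
  rw [pinv, Golay.idx_pt ((Golay.valid_iff.mp hv).2 _ (Golay.idx_lt q)), ← Golay.idx_permOf hv, hp, e]
  rfl

theorem span_check : ((CoSuz.latGens.zip wit).all fun la => chkSpan 5 8 pinv bas la.1 la.2) = true := by
  decide +kernel

theorem fix : Fix P0 5 Bs Gi where
  odd := rfl
  fix k := fixed_of_chk (X := bas.getD k 0) rfl (bas_fix k)
  gram i k := by rw [co_mkV (Bs k) _ rfl]; exact gram_check i k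
  span := span_of_check gen_mem pinv_spec (fun _ => rfl) (by decide +kernel) span_check

theorem P0_pow : P0 ^ 5 = 1 := by
  rw [P0, mono_pow]
  refine ext_axis fun i => ?_
  rw [mono_axis, if_neg (Finset.notMem_empty _), one_smul,
    show gen ^ 5 = 1 by rw [← order_gen, pow_orderOf_eq_one], Equiv.Perm.one_apply]

theorem axis_fixed (i : GolayPt) : Fixed P0 (axis i) := by
  unfold Fixed
  rw [P0, mono_axis, if_neg (Finset.notMem_empty _)]
  exact Baby.cls_axis _ _

theorem axis_co : co Bs Gi (axis none) = bits ax := by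
  have hb : coX (Golay.pack 24 fun j => if j = 7 then 24 else 16) = bits ax ∧
      decV (Golay.pack 24 fun j => if j = 7 then 24 else 16) = (Pi.single (Golay.pt 7) 8 : Vec) := by decide +kernel
  have e : ((axis (Golay.pt 7) : leechLattice) : Vec) = decV (Golay.pack 24 fun j => if j = 7 then 24 else 16) := by
    rw [hb.2, axis_val]
  rw [co_congr (Baby.cls_axis none (Golay.pt 7)), co_mkV _ _ e, hb.1]

theorem low_check : (lows.all fun x => inL (decV x.2) && chkFixV x.2 &&
    decide (coX x.2 = bits x.1) && decide (sqNorm (decV x.2) = 32 ∨ sqNorm (decV x.2) = 48)) = true := by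
  decide +kernel

theorem masks_check : ((List.range 256).all fun a => Nat.beq a 0 || (lows.any fun x => Nat.beq x.1 a) ||
    (tree.any fun x => Nat.beq x.1 a)) = true := by decide +kernel

/-- The coordinates of a fixed class of norm 64 are among the listed ones. -/
theorem frame_mask {v : leechLattice} (hv : Fixed P0 v) (hn : sqNorm (v : Vec) = 64) :
    ∃ x ∈ tree, co Bs Gi v = bits x.1 := by
  obtain ⟨hb, hlt⟩ := bits_toMask (co Bs Gi v)
  have h := List.all_eq_true.1 masks_check _ (List.mem_range.2 hlt)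
  simp only [Bool.or_eq_true, Nat.beq_eq, List.any_eq_true] at h
  rcases h with (h | ⟨x, hx, h⟩) | ⟨x, hx, h⟩
  · exfalso
    have h0 : cls v = cls 0 := (fix.co_inj hv Fixed.zero).1 (by
      rw [co_zero', ← hb, h]; funext k; simp [bits])
    have hz : sqNorm ((0 : leechLattice) : Vec) = 0 := by simp [sqNorm]
    rcases congr_short v.2 (0 : leechLattice).2 (by omega) (by omega) (cls_eq.1 h0) with e | e | ⟨-, e, -⟩
    · rw [e] at hn; omega
    · rw [e, norm_neg] at hn; omega
    · omega
  · exfalso
    have hc := List.all_eq_true.1 low_check x hx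
    simp only [Bool.and_eq_true, decide_eq_true_eq] at hc
    obtain ⟨⟨⟨hi, hf⟩, hco⟩, hnorm⟩ := hc
    let w : leechLattice := mkV x.2 hi
    have hw : Fixed P0 w := fixed_of_chk rfl hf
    have h0 : cls v = cls w := (fix.co_inj hv hw).1 (by rw [co_mkV w x.2 rfl, hco, h, hb])
    have hwn : sqNorm (w : Vec) = 32 ∨ sqNorm (w : Vec) = 48 := hnorm
    rcases congr_short v.2 w.2 (by omega) (by omega) (cls_eq.1 h0) with e | e | ⟨-, e, -⟩
    · rw [e] at hn; omega
    · rw [e, norm_neg] at hn; omega
    · omega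
  · exact ⟨x, hx, by rw [h, hb]⟩

end Cfsg.Agent.Spor.Leech.FiveFix

end
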