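import Cfsg.Agent.Lib.Spor.Leech.FiveFix.Fix

/-!
Elements of the centraliser of a coordinate permutation of order five and their action on ten subgroups of fixed
classes.
-/

set_option autoImplicit false
set_option maxRecDepth 100000

noncomputable section

namespace Cfsg.Agent.Spor.Leech.FiveFix

open Cfsg Cfsg.Agent.Spor.Leech.OddFix
open Cfsg.Agent.Spor.CoSuz (decV HasT)
open scoped Pointwise

/-- Forward values of a packed permutation of five points. -/
def fwd5 (c : ℕ) (i : Fin 5) : Fin 5 := ⟨c / 5 ^ (i : ℕ) % 5, Nat.mod_lt _ (by norm_num)⟩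

/-- Backward values of a packed permutation of five points. -/
def bwd5 (c : ℕ) (i : Fin 5) : Fin 5 := ⟨c / 5 ^ (5 + (i : ℕ)) % 5, Nat.mod_lt _ (by norm_num)⟩

/-- The permutation of five points. -/
def p5 (c : ℕ) : Equiv.Perm (Fin 5) :=
  if h : (∀ i, bwd5 c (fwd5 c i) = i) ∧ ∀ i, fwd5 c (bwd5 c i) = i then ⟨fwd5 c, bwd5 c, h.1, h.2⟩ else 1

/-- The permutation of ten points given by three numbers. -/
def wp (t : ℕ × ℕ × ℕ) : Equiv.Perm (Fin 5 ⊕ Fin 5) :=
  (if t.1 = 1 then Equiv.sumComm (Fin 5) (Fin 5) else 1) * Equiv.Perm.sumCongr (p5 t.2.1) (p5 t.2.2)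

theorem wp_mem {t : ℕ × ℕ × ℕ} (h1 : Equiv.Perm.sign (p5 t.2.1) = 1) (h2 : Equiv.Perm.sign (p5 t.2.2) = 1) :
    wp t ∈ Cfsg.alternatingFiveWreathTwo := by
  refine mul_mem ?_ (Subgroup.subset_closure (Or.inl ⟨⟨_, Equiv.Perm.mem_alternatingGroup.2 h1⟩,
    ⟨_, Equiv.Perm.mem_alternatingGroup.2 h2⟩, rfl⟩))
  split_ifs
  · exact Subgroup.subset_closure (Or.inr rfl)
  · exact one_mem _

/-- The place in the list. -/
def pos : Fin 5 ⊕ Fin 5 → ℕ := Sum.elim (fun i => (i : ℕ)) fun i => (i : ℕ) + 5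

/-- The subgroups of classes. -/
def Sset (j : Fin 5 ⊕ Fin 5) : Finset (Fin 8 → ZMod 2) := ((subs.getD (pos j) []).map bits).toFinset

theorem Sset_facts : ∀ j, (Sset j).card = 16 ∧ ∀ i, i ≠ j → (Sset i ∩ Sset j).card < 16 := by decide +kernel

/-- The action on the fixed classes. -/
def A (g : Cent P0) : Matrix (Fin 8) (Fin 8) (ZMod 2) :=
  Matrix.of fun i k => co Bs Gi ((g : Co0) • Bs k) i

theorem fixed_smul (g : Cent P0) {v : leechLattice} (hv : Fixed P0 v) : Fixed P0 ((g : Co0) • v) :=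
  Fixed.of_comm (mem_Cent.1 g.2) hv

theorem A_mulVec (g : Cent P0) {v : leechLattice} (hv : Fixed P0 v) :
    co Bs Gi ((g : Co0) • v) = (A g).mulVec (co Bs Gi v) := by
  funext i
  rw [co_congr (congr_smul (g := (g : Co0)) (fix.eq_comb hv))]
  show coHom' Bs Gi ((g : Co0) • comb Bs _) i = ∑ k, A g i k * co Bs Gi v k
  rw [comb, co_sum, map_sum, Finset.sum_apply]
  refine Finset.sum_congr rfl fun k _ => ?_
  have h2 : ∀ a : ZMod 2, a = 0 ∨ a = 1 := by decide
  rcases h2 (co Bs Gi v k) with e | e <;> rw [e]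
  · rw [if_neg (by decide), co_zero, map_zero, Pi.zero_apply, mul_zero]
  · rw [if_pos rfl, mul_one]; rfl

theorem A_mul (g h : Cent P0) : A (g * h) = A g * A h := by
  ext i k
  show co Bs Gi (((g : Co0) * (h : Co0)) • Bs k) i = _
  rw [mul_smul, A_mulVec g (fixed_smul h (fix.fix k))]
  rfl

theorem A_one : A 1 = 1 := by
  ext i k
  show co Bs Gi ((1 : Co0) • Bs k) i = _
  rw [one_smul, fix.gram, Matrix.one_apply]

/-- The automorphism moves the subgroups by the given permutation. -/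
def Maps (g : Cent P0) (π : Equiv.Perm (Fin 5 ⊕ Fin 5)) : Prop :=
  ∀ j, ∀ a ∈ Sset j, (A g).mulVec a ∈ Sset (π j)

theorem mulVec_inj (g : Cent P0) : Function.Injective (A g).mulVec := fun a b h => by
  have := congrArg (A g⁻¹).mulVec h
  simpa only [Matrix.mulVec_mulVec, ← A_mul, inv_mul_cancel, A_one, Matrix.one_mulVec] using this

theorem Maps.image {g : Cent P0} {π : Equiv.Perm (Fin 5 ⊕ Fin 5)} (h : Maps g π) (j : Fin 5 ⊕ Fin 5) :
    (Sset j).image (A g).mulVec = Sset (π j) := by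
  refine Finset.eq_of_subset_of_card_le (fun x hx => ?_) (le_of_eq ?_)
  · obtain ⟨a, ha, rfl⟩ := Finset.mem_image.1 hx
    exact h j a ha
  · rw [Finset.card_image_of_injective _ (mulVec_inj g), (Sset_facts j).1, (Sset_facts (π j)).1]

theorem Maps.unique {g : Cent P0} {π π' : Equiv.Perm (Fin 5 ⊕ Fin 5)} (h : Maps g π) (h' : Maps g π') : π = π' := by
  refine Equiv.ext fun j => ?_
  by_contra hne
  have h1 := (Sset_facts (π' j)).2 (π j) hne
  rw [← h.image j, ← h'.image j, Finset.inter_self, h.image j, (Sset_facts (π j)).1] at h1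
  exact lt_irrefl _ h1

theorem Maps.mul {g h : Cent P0} {π σ : Equiv.Perm (Fin 5 ⊕ Fin 5)} (hg : Maps g π) (hh : Maps h σ) :
    Maps (g * h) (π * σ) := fun j a ha => by
  rw [A_mul, ← Matrix.mulVec_mulVec]
  exact hg _ _ (hh j a ha)

theorem Maps.one : Maps 1 1 := fun j a ha => by rwa [A_one, Matrix.one_mulVec]

theorem Maps.inv {g : Cent P0} {π : Equiv.Perm (Fin 5 ⊕ Fin 5)} (h : Maps g π) : Maps g⁻¹ π⁻¹ := fun j a ha => by
  have h1 := h.image (π⁻¹ j)
  rw [show π (π⁻¹ j) = j from π.apply_symm_apply j] at h1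
  obtain ⟨b, hb, rfl⟩ := Finset.mem_image.1 (h1.symm ▸ ha)
  rwa [Matrix.mulVec_mulVec, ← A_mul, inv_mul_cancel, A_one, Matrix.one_mulVec]

/-- A combination of columns. -/
def mapM (M : List ℕ) (a : ℕ) : ℕ :=
  ((List.range 8).map fun k => if a.testBit k then M.getD k 0 else 0).foldr (fun x y => x ^^^ y) 0

theorem bits_xor (x y : ℕ) (i : Fin 8) : bits (x ^^^ y) i = bits x i + bits y i := by
  have h2 : (1 : ZMod 2) + 1 = 0 := rfl
  simp only [bits, Nat.testBit_xor]
  cases x.testBit i <;> cases y.testBit i <;> simp [h2]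

theorem bits_foldr (L : List ℕ) (i : Fin 8) :
    bits (L.foldr (fun x y => x ^^^ y) 0) i = (L.map fun x => bits x i).sum := by
  induction L with
  | nil => simp [bits]
  | cons x L ih => rw [List.foldr_cons, bits_xor, ih, List.map_cons, List.sum_cons]

/-- The columns of an automorphism. -/
def Cols (g : Cent P0) (M : List ℕ) : Prop := ∀ i k : Fin 8, A g i k = bits (M.getD k 0) i

theorem Cols.mulVec {g : Cent P0} {M : List ℕ} (h : Cols g M) (a : ℕ) :
    (A g).mulVec (bits a) = bits (mapM M a) := by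
  funext i
  show ∑ k, A g i k * bits a k = _
  rw [mapM, bits_foldr, List.map_map, OddFix.sum_range_map (M := ZMod 2), Finset.sum_range]
  refine Finset.sum_congr rfl fun k _ => ?_
  rw [h i k, Function.comp_apply]
  by_cases hk : a.testBit k = true
  · simp [bits, hk]
  · simp [bits, hk]

/-- The columns move the subgroups as stated. -/
def chkMaps (M : List ℕ) (π : Equiv.Perm (Fin 5 ⊕ Fin 5)) : Bool :=
  decide (∀ j, ((subs.getD (pos j) []).all fun a => (subs.getD (pos (π j)) []).contains (mapM M a)) = true)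

theorem Cols.maps {g : Cent P0} {M : List ℕ} (h : Cols g M) {π : Equiv.Perm (Fin 5 ⊕ Fin 5)}
    (hc : chkMaps M π = true) : Maps g π := fun j a ha => by
  simp only [chkMaps, decide_eq_true_eq, List.all_eq_true, List.contains_iff_mem] at hc
  rw [Sset, List.mem_toFinset, List.mem_map] at ha
  obtain ⟨m, hm, rfl⟩ := ha
  rw [h.mulVec, Sset, List.mem_toFinset, List.mem_map]
  exact ⟨_, hc j m hm, rfl⟩

/-- The coordinates of a packed vector moved by a signed permutation. -/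
def coI (R m X : ℕ) (i : Fin 8) : ZMod 2 :=
  ∑ j : Fin 8, Gi i j * ((dotI R m X (bas.getD j 0) / 8 : ℤ) : ZMod 2)

/-- The data of a coordinate permutation. -/
def chkR (x : ℕ × List ℕ × ℕ × ℕ × ℕ) : Bool :=
  Golay.inM24 x.1 && Nat.beq (Golay.comp x.1 g5) (Golay.comp g5 x.1) &&
    decide (∀ i k : Fin 8, coI x.1 0 (bas.getD k 0) i = bits (x.2.1.getD k 0) i) && chkMaps x.2.1 (wp x.2.2) &&
    decide (Equiv.Perm.sign (p5 x.2.2.2.1) = 1) && decide (Equiv.Perm.sign (p5 x.2.2.2.2) = 1)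

/-- The data of a sign change. -/
def chkC (x : ℕ × List ℕ × ℕ × ℕ × ℕ) : Bool :=
  Golay.codeList.contains x.1 && Nat.beq (Golay.imgMask (Golay.get g5) x.1) x.1 &&
    decide (∀ i k : Fin 8, coI Golay.idP x.1 (bas.getD k 0) i = bits (x.2.1.getD k 0) i) &&
    chkMaps x.2.1 (wp x.2.2) &&
    decide (Equiv.Perm.sign (p5 x.2.2.2.1) = 1) && decide (Equiv.Perm.sign (p5 x.2.2.2.2) = 1)

theorem gR_check : gR.all chkR = true := by decide +kernel

theorem gC_check : gC.all chkC = true := by decide +kernel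

theorem gR_cover : ((Golay.PermConj.conjList g5 (Golay.PermConj.pw g5 1)).all fun R =>
    gR.any fun x => Nat.beq x.1 R) = true := by decide +kernel

theorem gC_cover : (Golay.codeList.all fun m =>
    !(Nat.beq (Golay.imgMask (Golay.get g5) m) m) || gC.any fun x => Nat.beq x.1 m) = true := by decide +kernel

theorem pts_zero : Golay.pts 0 = ∅ := by decide +kernel

theorem gR_spec {x : ℕ × List ℕ × ℕ × ℕ × ℕ} (hx : x ∈ gR) :
    ∃ g : Cent P0, (∃ h : Golay.permOf x.1 ∈ M24, (g : Co0) = mono h empty_code) ∧ Cols g x.2.1 ∧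
      Maps g (wp x.2.2) ∧ wp x.2.2 ∈ Cfsg.alternatingFiveWreathTwo := by
  have h := List.all_eq_true.1 gR_check x hx
  simp only [chkR, Bool.and_eq_true, decide_eq_true_eq, Nat.beq_eq] at h
  obtain ⟨⟨⟨⟨⟨hM, hC⟩, hcol⟩, hmp⟩, hs1⟩, hs2⟩ := h
  have hπ := Golay.permOf_mem_M24 hM
  have e : Golay.permOf x.1 * Golay.permOf g5 = Golay.permOf g5 * Golay.permOf x.1 := by
    rw [← Golay.permOf_comp (Golay.PermConj.valid_of_inM24 hM) g5_checks.2.1, hC,
      Golay.permOf_comp g5_checks.2.1 (Golay.PermConj.valid_of_inM24 hM)]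
  have hc : mono hπ empty_code ∈ Cent P0 := mem_Cent.2 (by
    rw [P0, mono_empty_mul, mono_empty_mul]
    exact ext_axis fun i => by simp only [mono_axis, Finset.notMem_empty, if_false]; rw [gen, e])
  have hcols : Cols ⟨_, hc⟩ x.2.1 := fun i k => by
    rw [← hcol i k]
    show co Bs Gi (mono hπ empty_code • Bs k) i = _
    simp only [co, coI, mono_apply]
    refine Finset.sum_congr rfl fun j _ => ?_
    rw [← dot_signed (Golay.PermConj.valid_of_inM24 hM) rfl, pts_zero]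
    rfl
  exact ⟨⟨_, hc⟩, ⟨hπ, rfl⟩, hcols, hcols.maps hmp, wp_mem hs1 hs2⟩

theorem gC_spec {x : ℕ × List ℕ × ℕ × ℕ × ℕ} (hx : x ∈ gC) :
    ∃ g : Cent P0, (∃ h : Golay.pts x.1 ∈ supports (golayCode : Set (GolayPt → ZMod 2)),
        (g : Co0) = mono (one_mem M24) h) ∧ Cols g x.2.1 ∧
      Maps g (wp x.2.2) ∧ wp x.2.2 ∈ Cfsg.alternatingFiveWreathTwo := by
  have h := List.all_eq_true.1 gC_check x hx
  simp only [chkC, Bool.and_eq_true, decide_eq_true_eq, List.contains_iff_mem, Nat.beq_eq] at h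
  obtain ⟨⟨⟨⟨⟨hM, hfx⟩, hcol⟩, hmp⟩, hs1⟩, hs2⟩ := h
  have hcode : Golay.pts x.1 ∈ supports (golayCode : Set (GolayPt → ZMod 2)) :=
    Golay.mem_supports.2 ⟨x.1, hM, rfl⟩
  have hsm : gen • Golay.pts x.1 = Golay.pts x.1 := by
    rw [gen, Golay.permOf_smul_pts g5_checks.2.1, hfx]
  have hc : mono (one_mem M24) hcode ∈ Cent P0 := mem_Cent.2 (by
    obtain ⟨e1, e2⟩ := mono_mul_mono (one_mem M24) gen_mem hcode
    rw [P0, e1, e2]
    exact ext_axis fun i => by simp only [mono_axis, one_mul, mul_one, hsm])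
  have hcols : Cols ⟨_, hc⟩ x.2.1 := fun i k => by
    rw [← hcol i k]
    show co Bs Gi (mono (one_mem M24) hcode • Bs k) i = _
    simp only [co, coI, mono_apply]
    refine Finset.sum_congr rfl fun j _ => ?_
    rw [← dot_signed Golay.valid_idP Golay.permOf_idP]
    rfl
  exact ⟨⟨_, hc⟩, ⟨hcode, rfl⟩, hcols, hcols.maps hmp, wp_mem hs1 hs2⟩

/-- The data of the further automorphism. -/
def chkRows : Bool :=
  CoSuz.chkT rowsT && decide (CoSuz.mulP (permP g5) rowsT = CoSuz.mulP rowsT (permP g5)) &&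
    decide (∀ k : Fin 8, sqNorm (decV (bas.getD k 0)) ≤ 64 ∧ encV (decV (bas.getD k 0)) = bas.getD k 0) &&
    decide (∀ i k : Fin 8, coX (CoSuz.colP rowsT (bas.getD k 0)) i = bits (gT.1.getD k 0) i) &&
    chkMaps gT.1 (wp gT.2) &&
    decide (Equiv.Perm.sign (p5 gT.2.2.1) = 1) && decide (Equiv.Perm.sign (p5 gT.2.2.2) = 1)

theorem rows_check : chkRows = true := by decide +kernel

theorem gT_spec : ∃ g : Cent P0, Cols g gT.1 ∧ Maps g (wp gT.2) ∧ wp gT.2 ∈ Cfsg.alternatingFiveWreathTwo := by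
  have h := rows_check
  simp only [chkRows, Bool.and_eq_true, decide_eq_true_eq] at h
  obtain ⟨⟨⟨⟨⟨⟨hT, hmul⟩, hb⟩, hcol⟩, hmp⟩, hs1⟩, hs2⟩ := h
  have hM : HasT (CoSuz.ofT rowsT) rowsT := CoSuz.hasT_ofT hT
  have hP : HasT P0 (permP g5) := hasT_perm g5_checks.2.1 gen_mem rfl
  have hc : CoSuz.ofT rowsT ∈ Cent P0 := mem_Cent.2 ((hmul ▸ hP.mul hM).eq (hM.mul hP)).symm
  have hcols : Cols ⟨_, hc⟩ gT.1 := fun i k => by
    rw [← hcol i k]
    show co Bs Gi (CoSuz.ofT rowsT • Bs k) i = _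
    refine congrFun (co_mkV _ _ ?_) i
    have h6 := hM.app (v := Bs k) (hb k).1
    rw [show ((Bs k : leechLattice) : Vec) = decV (bas.getD k 0) from rfl, (hb k).2] at h6
    rw [h6, CoSuz.decV_encV (small_of_norm (by rw [co_norm]; exact (hb k).1))]
  exact ⟨⟨_, hc⟩, hcols, hcols.maps hmp, wp_mem hs1 hs2⟩

end Cfsg.Agent.Spor.Leech.FiveFix

end
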