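import Cfsg.Agent.Lib.Spor.Leech.OddFix.Setup
import Cfsg.Agent.Lib.Spor.Leech.FiveFix.Gens
import Cfsg.Agent.Lib.Spor.Golay.AutSearch

/-!
The centraliser in the rank 24 lattice automorphisms of a coordinate permutation of order five, modulo that
permutation and negation, is the wreath product of the alternating group of degree five by a group of order two.
-/

set_option autoImplicit false
set_option maxRecDepth 100000

noncomputable section

namespace Cfsg.Agent.Spor.Leech.FiveFix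

open Cfsg Cfsg.Agent.Spor.Leech.OddFix
open Cfsg.Agent.Spor.CoSuz (decV HasT)
open scoped Pointwise

/-- The columns of the listed generators. -/
def genM (k : ℕ) : List ℕ :=
  if k < 60 then (gR.getD k (0, [], 0, 0, 0)).2.1 else if k < 76 then (gC.getD (k - 60) (0, [], 0, 0, 0)).2.1 else gT.1

/-- The action of the listed generators. -/
def genP (k : ℕ) : ℕ × ℕ × ℕ :=
  if k < 60 then (gR.getD k (0, [], 0, 0, 0)).2.2 else if k < 76 then (gC.getD (k - 60) (0, [], 0, 0, 0)).2.2 else gT.2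

theorem lens : gR.length = 60 ∧ gC.length = 16 ∧ tree.length = 75 := by decide +kernel

theorem gen_spec (k : ℕ) : ∃ g : Cent P0, Cols g (genM k) ∧ Maps g (wp (genP k)) ∧
    wp (genP k) ∈ Cfsg.alternatingFiveWreathTwo := by
  by_cases h1 : k < 60
  · simp only [genM, genP, if_pos h1]
    obtain ⟨g, -, h⟩ := gR_spec (x := gR.getD k (0, [], 0, 0, 0)) (by
      rw [List.getD_eq_getElem _ _ (lens.1 ▸ h1)]; exact List.getElem_mem _)
    exact ⟨g, h⟩
  · by_cases h2 : k < 76
    · simp only [genM, genP, if_neg h1, if_pos h2]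
      obtain ⟨g, -, h⟩ := gC_spec (x := gC.getD (k - 60) (0, [], 0, 0, 0)) (by
        rw [List.getD_eq_getElem _ _ (by rw [lens.2.1]; omega)]; exact List.getElem_mem _)
      exact ⟨g, h⟩
    · simp only [genM, genP, if_neg h1, if_neg h2]
      exact gT_spec

/-- An entry. -/
def entry (i : ℕ) : ℕ × ℕ × ℕ × ℕ × ℕ × ℕ := tree.getD i (0, 0, 0, 0, 0, 0)

theorem tree_check : ∀ i < 75, if i = 0 then (entry i).1 = ax ∧ wp (entry i).2.2.2 = 1
    else (entry i).2.2.1 < i ∧ mapM (genM (entry i).2.1) (entry (entry i).2.2.1).1 = (entry i).1 ∧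
      wp (entry i).2.2.2 = wp (genP (entry i).2.1) * wp (entry (entry i).2.2.1).2.2.2 := by decide +kernel

theorem tree_spec : ∀ i < 75, ∃ g : Cent P0, co Bs Gi ((g : Co0) • axis none) = bits (entry i).1 ∧
    Maps g (wp (entry i).2.2.2) ∧ wp (entry i).2.2.2 ∈ Cfsg.alternatingFiveWreathTwo := by
  intro i
  induction i using Nat.strong_induction_on with
  | _ i ih =>
    intro hi
    have h := tree_check i hi
    by_cases h0 : i = 0
    · rw [if_pos h0] at h
      exact ⟨1, by rw [h.1, OneMemClass.coe_one, one_smul, axis_co], h.2 ▸ Maps.one, h.2 ▸ one_mem _⟩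
    · rw [if_neg h0] at h
      obtain ⟨hlt, hm, hp⟩ := h
      obtain ⟨g, hg, hgm, hgw⟩ := ih _ hlt (by omega)
      obtain ⟨k, hk, hkm, hkw⟩ := gen_spec (entry i).2.1
      refine ⟨k * g, ?_, hp ▸ hkm.mul hgm, hp ▸ mul_mem hkw hgw⟩
      rw [Subgroup.coe_mul, mul_smul, A_mulVec k (fixed_smul g (axis_fixed none)), hg, hk.mulVec, hm]

/-- A member of the stabiliser of the standard cross as a product of the listed ones. -/
theorem exists_stab {h : Cent P0} (hs : (h : Co0) ∈ crossStab) : ∃ x ∈ gR, ∃ y ∈ gC,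
    (∀ v : leechLattice, (((h : Co0) • v : leechLattice) : Vec) =
      signedPerm (Golay.permOf x.1) (Golay.pts y.1) (v : Vec)) ∧
      Maps h (wp y.2.2 * wp x.2.2) ∧ wp y.2.2 * wp x.2.2 ∈ Cfsg.alternatingFiveWreathTwo := by
  obtain ⟨π, hπ, c, hcc, he⟩ := exists_mono hs
  have hc := mem_Cent.1 h.2
  obtain ⟨e1, e2⟩ := mono_mul_mono hπ gen_mem hcc
  rw [he, P0, e1, e2] at hc
  obtain ⟨hcomm, hce⟩ := mono_inj _ _ _ _ hc
  obtain ⟨R, hR, eR⟩ := Golay.PermConj.mem_conjList g5_checks.2.1 (k := 1) hπ (by rw [pow_one]; exact hcomm)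
  obtain ⟨x, hx, hxR⟩ := List.any_eq_true.1 (List.all_eq_true.1 gR_cover R hR)
  rw [Nat.beq_eq] at hxR
  obtain ⟨m, hm, rfl⟩ := Golay.mem_supports.1 hcc
  have hm' : Golay.imgMask (Golay.get g5) m = m := by
    have hv := g5_checks.2.1
    refine Golay.pts_injOn (Golay.Aut.imgMask_lt hv m) (Golay.codeList_lt hm) ?_
    rw [← Golay.permOf_smul_pts hv]
    exact hce.symm
  obtain ⟨y, hy, hym⟩ : ∃ y ∈ gC, y.1 = m := by
    have h1 := List.all_eq_true.1 gC_cover m hm
    rw [hm'] at h1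
    simpa using h1
  obtain ⟨a, ⟨ha, ea⟩, -, hma, hwa⟩ := gR_spec hx
  obtain ⟨b, ⟨hb, eb⟩, -, hmb, hwb⟩ := gC_spec hy
  have hh : h = b * a := Subtype.ext (by
    rw [Subgroup.coe_mul, ea, eb, (mono_mul_mono (one_mem M24) ha hb).1, he]
    exact ext_axis fun i => by simp only [mono_axis, one_mul, hxR, eR, hym])
  refine ⟨x, hx, y, hy, fun v => ?_, hh ▸ hmb.mul hma, mul_mem hwb hwa⟩
  rw [he, mono_apply, hxR, eR, hym]

theorem decomp (g : Cent P0) : ∃ i < 75, ∃ x ∈ gR, ∃ y ∈ gC,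
    co Bs Gi ((g : Co0) • axis none) = bits (entry i).1 ∧
      Maps g (wp (entry i).2.2.2 * (wp y.2.2 * wp x.2.2)) ∧
      wp (entry i).2.2.2 * (wp y.2.2 * wp x.2.2) ∈ Cfsg.alternatingFiveWreathTwo := by
  obtain ⟨x, hx, hco⟩ := frame_mask (fixed_smul g (axis_fixed none)) (by rw [co_norm, axis_norm])
  obtain ⟨i, hi, rfl⟩ := List.getElem_of_mem hx
  have hi' : i < 75 := lens.2.2 ▸ hi
  rw [show tree[i] = entry i from (List.getD_eq_getElem _ _ hi).symm] at hco
  obtain ⟨t, ht, htm, htw⟩ := tree_spec i hi'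
  have hst : ((t⁻¹ * g : Cent P0) : Co0) ∈ crossStab := by
    rw [← stabC_eq_crossStab none, mem_stabC, Subgroup.coe_mul, Subgroup.coe_inv, mul_smul,
      congr_smul ((fix.co_inj (fixed_smul g (axis_fixed none)) (fixed_smul t (axis_fixed none))).1
        (hco.trans ht.symm)), inv_smul_smul]
  obtain ⟨a, ha, b, hb, -, hm, hw⟩ := exists_stab hst
  refine ⟨i, hi', a, ha, b, hb, hco, ?_, mul_mem htw hw⟩
  have := htm.mul hm
  rwa [mul_inv_cancel_left] at this

theorem exists_maps (g : Cent P0) : ∃ π : Cfsg.alternatingFiveWreathTwo, Maps g (π : Equiv.Perm (Fin 5 ⊕ Fin 5)) := by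
  obtain ⟨i, -, x, -, y, -, -, h, hw⟩ := decomp g
  exact ⟨⟨_, hw⟩, h⟩

/-- The map onto the wreath product. -/
def rho : Cent P0 →* Cfsg.alternatingFiveWreathTwo :=
  MonoidHom.mk' (fun g => (exists_maps g).choose) fun g h => Subtype.ext
    ((exists_maps (g * h)).choose_spec.unique ((exists_maps g).choose_spec.mul (exists_maps h).choose_spec))

theorem rho_eq {g : Cent P0} {π : Equiv.Perm (Fin 5 ⊕ Fin 5)} (h : Maps g π) :
    (rho g : Equiv.Perm (Fin 5 ⊕ Fin 5)) = π :=
  (exists_maps g).choose_spec.unique h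

theorem rho_fixes {g : Cent P0} (h : ∀ k, cls ((g : Co0) • Bs k) = cls (Bs k)) : rho g = 1 := by
  refine Subtype.ext (rho_eq fun j a ha => ?_)
  rwa [show A g = 1 from Matrix.ext fun i k => by
    show co Bs Gi ((g : Co0) • Bs k) i = _
    rw [co_congr (h k), fix.gram, Matrix.one_apply], Matrix.one_mulVec]

/-- The witnesses for the generators of the wreath product. -/
def witP (t : ℕ × ℕ × ℕ) : Equiv.Perm (Fin 5 ⊕ Fin 5) :=
  wp (entry t.1).2.2.2 * (wp (gC.getD t.2.1 (0, [], 0, 0, 0)).2.2 * wp (gR.getD t.2.2 (0, [], 0, 0, 0)).2.2)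

/-- A witness is in range. -/
def witOk (t : ℕ × ℕ × ℕ) : Bool := decide (t.1 < 75 ∧ t.2.1 < 16 ∧ t.2.2 < 60)

theorem range_of_wit {t : ℕ × ℕ × ℕ} (h : witOk t = true) : ∃ g, (rho g : Equiv.Perm (Fin 5 ⊕ Fin 5)) = witP t := by
  simp only [witOk, decide_eq_true_eq] at h
  obtain ⟨a, -, ha, -⟩ := tree_spec _ h.1
  obtain ⟨b, -, -, hb, -⟩ := gC_spec (x := gC.getD t.2.1 (0, [], 0, 0, 0)) (by
    rw [List.getD_eq_getElem _ _ (lens.2.1 ▸ h.2.1)]; exact List.getElem_mem _)
  obtain ⟨c, -, -, hc, -⟩ := gR_spec (x := gR.getD t.2.2 (0, [], 0, 0, 0)) (by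
    rw [List.getD_eq_getElem _ _ (lens.1 ▸ h.2.2)]; exact List.getElem_mem _)
  exact ⟨a * (b * c), rho_eq (ha.mul (hb.mul hc))⟩

theorem wit_check : (∀ σ : Equiv.Perm (Fin 5), Equiv.Perm.sign σ = 1 →
    (witL.any fun t => witOk t && decide (witP t = Equiv.Perm.sumCongr σ 1)) = true ∧
    (witR.any fun t => witOk t && decide (witP t = Equiv.Perm.sumCongr 1 σ)) = true) ∧
    (witOk witS && decide (witP witS = Equiv.sumComm (Fin 5) (Fin 5))) = true := by decide +kernel

theorem rho_surjective : Function.Surjective rho := by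
  let H : Subgroup (Equiv.Perm (Fin 5 ⊕ Fin 5)) := (Subgroup.subtype _).comp rho |>.range
  have hle : Cfsg.alternatingFiveWreathTwo ≤ H := by
    refine (Subgroup.closure_le _).2 ?_
    rintro _ (⟨σ, τ, rfl⟩ | rfl)
    · have hL := (wit_check.1 _ (Equiv.Perm.mem_alternatingGroup.1 σ.2)).1
      have hR := (wit_check.1 _ (Equiv.Perm.mem_alternatingGroup.1 τ.2)).2
      simp only [List.any_eq_true, Bool.and_eq_true, decide_eq_true_eq] at hL hR
      obtain ⟨t, -, ht, e⟩ := hL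
      obtain ⟨u, -, hu, e'⟩ := hR
      obtain ⟨a, ha⟩ := range_of_wit ht
      obtain ⟨b, hb⟩ := range_of_wit hu
      refine ⟨a * b, ?_⟩
      rw [map_mul, MonoidHom.comp_apply, MonoidHom.comp_apply, Subgroup.coe_subtype, ha, hb, e, e',
        Equiv.Perm.sumCongr_mul, mul_one, one_mul]
    · have h := wit_check.2
      simp only [Bool.and_eq_true, decide_eq_true_eq] at h
      obtain ⟨a, ha⟩ := range_of_wit h.1
      exact ⟨a, ha.trans h.2⟩
  intro w
  obtain ⟨g, hg⟩ := hle w.2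
  exact ⟨g, Subtype.ext hg⟩

/-- Only few listed elements act trivially on the ten subgroups. -/
theorem ker_check : (∀ i < 75, (∀ j, bits ax ∈ Sset j → bits (entry i).1 ∈ Sset j) → (entry i).1 = ax ∨
      (gR.all fun x => gC.all fun y => !decide (wp (entry i).2.2.2 * (wp y.2.2 * wp x.2.2) = 1)) = true) ∧
    (gR.all fun x => gC.all fun y => !decide (wp y.2.2 * wp x.2.2 = 1) ||
      (((List.range 5).any fun i => Nat.beq x.1 (Golay.PermConj.pw g5 i)) &&
        (Nat.beq y.1 0 || Nat.beq y.1 16777215))) = true := by decide +kernel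

theorem rho_ker (g : Cent P0) (hg : rho g = 1) : ∃ i : ℕ, (g : Co0) = P0 ^ i ∨ (g : Co0) = negCo * P0 ^ i := by
  obtain ⟨i, hi, x, hx, y, hy, hco, hmaps, -⟩ := decomp g
  have h1 : (wp (entry i).2.2.2 * (wp y.2.2 * wp x.2.2)) = 1 := by rw [← rho_eq hmaps, hg]; rfl
  have hsub : ∀ j, bits ax ∈ Sset j → bits (entry i).1 ∈ Sset j := fun j hj => by
    have h2 := hmaps j _ hj
    rwa [h1, Equiv.Perm.one_apply, ← axis_co, ← A_mulVec g (axis_fixed none), hco] at h2
  have hax : (entry i).1 = ax := (ker_check.1 i hi hsub).resolve_right fun h => by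
    have h3 := List.all_eq_true.1 (List.all_eq_true.1 h x hx) y hy
    simp [h1] at h3
  have hst : (g : Co0) ∈ crossStab := by
    rw [← stabC_eq_crossStab none, mem_stabC]
    exact (fix.co_inj (fixed_smul g (axis_fixed none)) (axis_fixed none)).1 (by rw [hco, hax, axis_co])
  obtain ⟨a, ha, b, hb, hval, hm, -⟩ := exists_stab hst
  have h4 : wp b.2.2 * wp a.2.2 = 1 := by rw [← rho_eq hm, hg]; rfl
  have h5 := List.all_eq_true.1 (List.all_eq_true.1 ker_check.2 a ha) b hb
  simp only [h4, decide_true, Bool.not_true, Bool.false_or, Bool.and_eq_true, List.any_eq_true, List.mem_range,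
    Bool.or_eq_true, Nat.beq_eq] at h5
  obtain ⟨⟨k, -, hk⟩, hm0⟩ := h5
  refine ⟨k, ?_⟩
  have hp : Golay.permOf a.1 = gen ^ k := by rw [hk, (pw_spec k).2]
  rw [show P0 ^ k = mono (pow_mem gen_mem k) empty_code from mono_pow _ k]
  rcases hm0 with hm0 | hm0
  · left
    refine ext_axis fun q => Subtype.ext ?_
    rw [hval, hm0, hp, mono_apply, pts_zero]
  · right
    refine ext_axis fun q => Subtype.ext ?_
    rw [hval, hm0, hp, mul_smul, negCo_apply, AddSubgroup.coe_neg, mono_apply,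
      show Golay.pts 16777215 = Finset.univ by decide +kernel]
    funext r
    simp [signedPerm]

/-- The base of the wreath product. -/
def baseHom : alternatingGroup (Fin 5) × alternatingGroup (Fin 5) →* Cfsg.alternatingFiveWreathTwo :=
  MonoidHom.mk' (fun p => ⟨Equiv.Perm.sumCongr (p.1 : Equiv.Perm (Fin 5)) (p.2 : Equiv.Perm (Fin 5)),
    Subgroup.subset_closure (Or.inl ⟨p.1, p.2, rfl⟩)⟩) fun p q => Subtype.ext (by
      show Equiv.Perm.sumCongr _ _ = Equiv.Perm.sumCongr _ _ * Equiv.Perm.sumCongr _ _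
      rw [Equiv.Perm.sumCongr_mul]; rfl)

theorem baseHom_injective : Function.Injective baseHom := fun p q h => by
  have h1 := congrArg Subtype.val h
  refine Prod.ext (Subtype.ext (Equiv.ext fun i => ?_)) (Subtype.ext (Equiv.ext fun i => ?_))
  · simpa [baseHom] using congrArg (fun e : Equiv.Perm (Fin 5 ⊕ Fin 5) => e (Sum.inl i)) h1
  · simpa [baseHom] using congrArg (fun e : Equiv.Perm (Fin 5 ⊕ Fin 5) => e (Sum.inr i)) h1

/-- The exchange. -/
def swapW : Cfsg.alternatingFiveWreathTwo :=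
  ⟨Equiv.sumComm (Fin 5) (Fin 5), Subgroup.subset_closure (Or.inr rfl)⟩

theorem swapW_sq : swapW * swapW = 1 := Subtype.ext (Equiv.ext fun x => by rcases x with i | i <;> rfl)

theorem swap_base (p : alternatingGroup (Fin 5) × alternatingGroup (Fin 5)) :
    swapW * baseHom p = baseHom (p.2, p.1) * swapW :=
  Subtype.ext (Equiv.ext fun x => by rcases x with i | i <;> rfl)

theorem wreath_cases (w : Cfsg.alternatingFiveWreathTwo) :
    ∃ p, w = baseHom p ∨ w = swapW * baseHom p := by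
  obtain ⟨w, hw⟩ := w
  induction hw using Subgroup.closure_induction with
  | mem x hx =>
    rcases hx with ⟨σ, τ, rfl⟩ | rfl
    · exact ⟨(σ, τ), Or.inl rfl⟩
    · exact ⟨1, Or.inr (by rw [map_one, mul_one]; rfl)⟩
  | one => exact ⟨1, Or.inl (by rw [map_one]; rfl)⟩
  | mul a b ha hb iha ihb =>
    obtain ⟨p, hp⟩ := iha
    obtain ⟨q, hq⟩ := ihb
    rw [show (⟨a * b, _⟩ : Cfsg.alternatingFiveWreathTwo) = ⟨a, ha⟩ * ⟨b, hb⟩ from rfl]
    rcases hp with hp | hp <;> rcases hq with hq | hq <;> rw [hp, hq]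
    · exact ⟨p * q, Or.inl (map_mul _ _ _).symm⟩
    · refine ⟨(p.2, p.1) * q, Or.inr ?_⟩
      rw [map_mul, ← mul_assoc, ← mul_assoc, swap_base]
    · exact ⟨p * q, Or.inr (by rw [map_mul, mul_assoc])⟩
    · refine ⟨(p.2, p.1) * q, Or.inl ?_⟩
      rw [swap_base, mul_assoc, ← mul_assoc swapW swapW, swapW_sq, one_mul, map_mul]
  | inv a ha iha =>
    obtain ⟨p, hp⟩ := iha
    rw [show (⟨a⁻¹, _⟩ : Cfsg.alternatingFiveWreathTwo) = (⟨a, ha⟩ : Cfsg.alternatingFiveWreathTwo)⁻¹ from rfl]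
    rcases hp with hp | hp <;> rw [hp]
    · exact ⟨p⁻¹, Or.inl (map_inv _ _).symm⟩
    · refine ⟨(p.2, p.1)⁻¹, Or.inr ?_⟩
      rw [map_inv, mul_inv_rev, inv_eq_of_mul_eq_one_right swapW_sq, eq_mul_inv_iff_mul_eq, mul_assoc, swap_base,
        inv_mul_cancel_left]

theorem two_alternating (N : Subgroup (alternatingGroup (Fin 5))) (hN : N.Normal) (hp : IsPGroup 2 N) : N = ⊥ := by
  rcases hN.eq_bot_or_eq_top with h | h
  · exact h
  · exfalso
    haveI : Fact (Nat.Prime 2) := ⟨Nat.prime_two⟩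
    obtain ⟨k, hk⟩ := hp.exists_card_eq
    rw [h, Subgroup.card_top, nat_card_alternatingGroup, Nat.card_eq_fintype_card, Fintype.card_fin] at hk
    have h3 : 3 ∣ 2 ^ k := hk ▸ by decide
    exact absurd (Nat.Prime.dvd_of_dvd_pow (by norm_num) h3) (by norm_num)

theorem core (N : Subgroup Cfsg.alternatingFiveWreathTwo) (hN : N.Normal) (hp : IsPGroup 2 N) : N = ⊥ := by
  have hb : N.comap baseHom = ⊥ := by
    have h1 : IsPGroup 2 (N.comap baseHom) := hp.comap_of_injective _ baseHom_injective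
    have h2 := two_alternating _ ((hN.comap baseHom).map (MonoidHom.fst _ _) Prod.fst_surjective) (h1.map _)
    have h3 := two_alternating _ ((hN.comap baseHom).map (MonoidHom.snd _ _) Prod.snd_surjective) (h1.map _)
    rw [Subgroup.eq_bot_iff_forall]
    intro p hp'
    refine Prod.ext ?_ ?_
    · exact Subgroup.mem_bot.1 (h2 ▸ Subgroup.mem_map_of_mem (MonoidHom.fst _ _) hp')
    · exact Subgroup.mem_bot.1 (h3 ▸ Subgroup.mem_map_of_mem (MonoidHom.snd _ _) hp')
  have hbase : ∀ p, baseHom p ∈ N → p = 1 := fun p h => Subgroup.mem_bot.1 (hb ▸ h)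
  rw [Subgroup.eq_bot_iff_forall]
  intro n hn
  obtain ⟨p, hp' | hp'⟩ := wreath_cases n
  · rw [hp', hbase p (hp' ▸ hn), map_one]
  · exfalso
    subst hp'
    obtain ⟨σ, hσ⟩ := exists_ne (1 : alternatingGroup (Fin 5))
    have h4 : swapW * baseHom p * baseHom (σ, 1) * (swapW * baseHom p)⁻¹ * (baseHom (σ, 1))⁻¹ ∈ N := by
      have h5 := hN.conj_mem _ (inv_mem hn) (baseHom (σ, 1))
      have h6 := mul_mem hn h5
      simpa only [mul_assoc] using h6
    have h7 : swapW * baseHom p * baseHom (σ, 1) * (swapW * baseHom p)⁻¹ * (baseHom (σ, 1))⁻¹ =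
        baseHom ((p.2, p.1) * (1, σ) * (p.2, p.1)⁻¹ * (σ, 1)⁻¹) := by
      have e := swap_base (p * (σ, 1) * p⁻¹)
      rw [map_mul, map_mul, map_inv] at e
      rw [map_mul, map_inv, show (p.2, p.1) * (1, σ) * (p.2, p.1)⁻¹ =
        ((p * (σ, 1) * p⁻¹).2, (p * (σ, 1) * p⁻¹).1) from rfl]
      rw [mul_inv_rev, inv_eq_of_mul_eq_one_right swapW_sq]
      calc swapW * baseHom p * baseHom (σ, 1) * ((baseHom p)⁻¹ * swapW) * (baseHom (σ, 1))⁻¹
          = swapW * (baseHom p * baseHom (σ, 1) * (baseHom p)⁻¹) * swapW * (baseHom (σ, 1))⁻¹ := by group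
        _ = _ := by rw [e, mul_assoc _ swapW swapW, swapW_sq, mul_one]
    rw [h7] at h4
    have h8 := congrArg Prod.fst (hbase _ h4)
    simp at h8
    exact hσ h8

theorem quot : Quot P0 Bs rho where
  surj := rho_surjective
  gen _ := rho_fixes fun k => fix.fix k
  neg _ := rho_fixes fun k => by
    show cls (negCo • Bs k) = _
    rw [negCo_apply]; exact Baby.cls_neg _
  ker := rho_ker
  faith _ h := rho_fixes h
  core := core

end Cfsg.Agent.Spor.Leech.FiveFix

end
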