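import Cfsg.Agent.Lib.Spor.Leech.OddFix.Prep
import Cfsg.Agent.Lib.Spor.Leech.FiveFix.Quot

/-!
In a group of Monster type the centraliser of an element of order five fixing two centres is, modulo that
element, a group of Harada–Norton type.
-/

set_option autoImplicit false
set_option maxRecDepth 100000
set_option linter.style.haveILetI false

noncomputable section

namespace Cfsg.Agent.Spor.Leech.FiveFix

open Cfsg Cfsg.Agent.Spor.Leech.OddFix

theorem norm_two : (Golay.PermConj.conjList g5 (Golay.PermConj.pw g5 2)).any Golay.inM24 = true := by decide +kernel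

/-- Every exponent prime to five is that of a normalising automorphism. -/
theorem exists_norm (i : ℕ) (hi : ¬ 5 ∣ i) : ∃ g : Co0, g * P0 * g⁻¹ = P0 ^ i := by
  obtain ⟨R, hR, hM⟩ := List.any_eq_true.1 norm_two
  have e : Golay.permOf R * gen = gen ^ 2 * Golay.permOf R := Golay.PermConj.of_conjList g5_checks.2.1 hR hM
  obtain ⟨g, hg⟩ : ∃ g : Co0, g * P0 * g⁻¹ = P0 ^ 2 := by
    refine ⟨mono (Golay.permOf_mem_M24 hM) empty_code, mul_inv_eq_iff_eq_mul.2 ?_⟩
    rw [P0, mono_pow, mono_empty_mul, mono_empty_mul]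
    exact ext_axis fun k => by simp only [mono_axis, Finset.notMem_empty, if_false, e]
  have hk : ∀ k : ℕ, g ^ k * P0 * (g ^ k)⁻¹ = P0 ^ 2 ^ k := by
    intro k
    induction k with
    | zero => simp
    | succ k ih =>
      calc g ^ (k + 1) * P0 * (g ^ (k + 1))⁻¹ = g * (g ^ k * P0 * (g ^ k)⁻¹) * g⁻¹ := by group
        _ = _ := by rw [ih, ← conj_pow, hg, ← pow_mul, ← pow_succ']
  have hred : ∀ n : ℕ, P0 ^ n = P0 ^ (n % 5) := fun n => by
    conv_lhs => rw [← Nat.mod_add_div n 5]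
    rw [pow_add, pow_mul, P0_pow, one_pow, mul_one]
  rw [hred i]
  have h5 : i % 5 = 1 ∨ i % 5 = 2 ∨ i % 5 = 3 ∨ i % 5 = 4 := by omega
  rcases h5 with h | h | h | h <;> rw [h]
  · exact ⟨g ^ 0, hk 0⟩
  · exact ⟨g ^ 1, hk 1⟩
  · exact ⟨g ^ 3, (hk 3).trans (hred 8)⟩
  · exact ⟨g ^ 2, hk 2⟩

theorem fac_five : (Nat.card ↥M24).factorization 5 = 1 := by
  haveI : Fact (Nat.Prime 5) := ⟨by norm_num⟩
  rw [Golay.card_M24, Nat.factorization_def _ (by norm_num : Nat.Prime 5),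
    show (244823040 : ℕ) = 5 * 48964608 by norm_num, padicValNat.mul (by norm_num) (by norm_num), padicValNat_self,
    padicValNat.eq_zero_of_not_dvd (by norm_num)]

theorem five_conj (σ : Equiv.Perm GolayPt) (hσ : σ ∈ M24) (ho : orderOf σ = 5) :
    ∃ π ∈ M24, ∃ j : ℕ, π * σ * π⁻¹ = gen ^ j := by
  haveI : Fact (Nat.Prime 5) := ⟨by norm_num⟩
  have hS : Nat.card (Subgroup.zpowers (⟨σ, hσ⟩ : ↥M24)) = 5 ^ (Nat.card ↥M24).factorization 5 := by
    rw [Nat.card_zpowers, ← Subgroup.orderOf_coe, fac_five, pow_one]; exact ho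
  have hT : Nat.card (Subgroup.zpowers (⟨gen, gen_mem⟩ : ↥M24)) = 5 ^ (Nat.card ↥M24).factorization 5 := by
    rw [Nat.card_zpowers, ← Subgroup.orderOf_coe, fac_five, pow_one]; exact order_gen
  obtain ⟨k, hk⟩ := MulAction.exists_smul_eq ↥M24 (Sylow.ofCard _ hS) (Sylow.ofCard _ hT)
  have hm : k * ⟨σ, hσ⟩ * k⁻¹ ∈ Subgroup.zpowers (⟨gen, gen_mem⟩ : ↥M24) := by
    have h1 : k * ⟨σ, hσ⟩ * k⁻¹ ∈ ((k • Sylow.ofCard _ hS : Sylow 5 ↥M24) : Subgroup ↥M24) :=
      ⟨⟨σ, hσ⟩, Subgroup.mem_zpowers _, rfl⟩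
    rw [hk] at h1
    exact h1
  obtain ⟨j, hj⟩ := (isOfFinOrder_of_finite _).mem_powers_iff_mem_zpowers.2 hm
  exact ⟨k, k.2, j, (congrArg Subtype.val hj).symm⟩

variable {G : Type*} [Group G] [Finite G] {z : G} {Q : Subgroup (Subgroup.centralizer ({z} : Set G))} [Q.Normal]
  {e : (Subgroup.centralizer ({z} : Set G)) ⧸ Q ≃* Cfsg.Spor.Co1} {ψ : leechLattice → Q ⧸ Subgroup.center Q}
  {b s : G}

theorem hn (S : Setup z Q e ψ 5 P0 Bs Gi b s none) [(NT b).Normal]
    (hswap : ∃ h : G, h * z * h⁻¹ = s ∧ h * b * h⁻¹ ∈ Subgroup.zpowers b) :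
    Cfsg.IsOfHaradaNortonType (CB b ⧸ NT b) := by
  haveI := S.R_normal
  exact ⟨S.zb, S.R, inferInstance, S.setting quot hswap exists_norm (by norm_num) (by norm_num), ⟨S.iso quot⟩⟩

/-- The reduction for a Sylow subgroup of order five of the joint centraliser. -/
theorem exists_setup (hM : IsOfMonsterType z Q) (hsQ : s ∈ QG Q) (hs : IsConj z s) (hs1 : s ≠ z) (B : Subgroup G)
    (hB : B ≤ Subgroup.centralizer ({z, s} : Set G))
    (hBp : Nat.card B = 5 ^ (Nat.card ↥(Subgroup.centralizer ({z, s} : Set G))).factorization 5) :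
    ∃ (e : (Subgroup.centralizer ({z} : Set G)) ⧸ Q ≃* Cfsg.Spor.Co1) (ψ : leechLattice → Q ⧸ Subgroup.center Q)
      (b : G), B = Subgroup.zpowers b ∧ Setup z Q e ψ 5 P0 Bs Gi b s none ∧
        ∃ h : G, h * z * h⁻¹ = s ∧ h * b * h⁻¹ ∈ Subgroup.zpowers b := by
  haveI : Fact (Nat.Prime 5) := ⟨by norm_num⟩
  obtain ⟨e, ψ, hψ⟩ := hM.2
  have h := MT.of_type hM hψ
  have hcard : Nat.card B = 5 := by
    obtain ⟨k, hk⟩ := card_joint h hsQ hs hs1
    have hf := fac_five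
    rw [Golay.card_M24] at hf
    rw [hBp, hk, Nat.factorization_mul (by positivity) (by norm_num), Finsupp.add_apply,
      Nat.factorization_eq_zero_of_not_dvd (fun hd => by
        have := (Nat.prime_dvd_prime_iff_eq (by norm_num : Nat.Prime 5) Nat.prime_two).1
          ((by norm_num : Nat.Prime 5).dvd_of_dvd_pow hd)
        omega), zero_add, hf]
    norm_num
  obtain ⟨b, hb⟩ := exists_prime_orderOf_dvd_card' (G := B) 5 (by rw [hcard])
  obtain ⟨k, hkz, hk⟩ := exists_swap h hsQ hs hs1 B hB hBp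
  have hbB : Subgroup.zpowers (b : G) = B := by
    refine Subgroup.eq_of_le_of_card_ge (Subgroup.zpowers_le.2 b.2) ?_
    rw [Nat.card_zpowers, Subgroup.orderOf_coe, hb, hcard]
  have hbL := Subgroup.mem_centralizer_iff.1 (hB b.2)
  have hbz : (b : G) * z = z * b := (hbL z (by simp)).symm
  have hbs : (b : G) * s = s * b := (hbL s (by simp)).symm
  have hob : orderOf (b : G) = 5 := by rw [Subgroup.orderOf_coe, hb]
  obtain ⟨e₁, ψ₁, σ, hσ, hσo, h₁, hr₁, hi₁⟩ := exists_frame h hsQ hs hs1 (by norm_num : Nat.Prime 5) rfl hob hbz hbs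
  obtain ⟨π, hπ, j, hconj⟩ := five_conj σ hσ hσo
  obtain ⟨e₂, ψ₂, b', hb'z, hgen, hob', h₂, hr₂, hi₂⟩ :=
    conj_frame h₁ hr₁ (by norm_num : Nat.Prime 5) hob hbz hσ hi₁ gen_mem hπ hσo order_gen hconj
  obtain rfl : B = Subgroup.zpowers b' := (hgen.trans hbB).symm
  have hbL' := Subgroup.mem_centralizer_iff.1 (hB (Subgroup.mem_zpowers b'))
  exact ⟨e₂, ψ₂, b', rfl, ⟨h₂, by norm_num, fix, hob', hb'z, hi₂, P0_pow, (hbL' s (by simp)).symm, hsQ, hr₂, hs⟩,
    ⟨k, hkz, hk b' (Subgroup.mem_zpowers b')⟩⟩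

/-- The section at an element of order five. -/
theorem hn_type (hM : IsOfMonsterType z Q) (hsQ : s ∈ QG Q) (hs : IsConj z s) (hs1 : s ≠ z) (B : Subgroup G)
    (hB : B ≤ Subgroup.centralizer ({z, s} : Set G))
    (hBp : Nat.card B = 5 ^ (Nat.card ↥(Subgroup.centralizer ({z, s} : Set G))).factorization 5)
    [(B.subgroupOf (Subgroup.centralizer (B : Set G))).Normal] :
    Cfsg.IsOfHaradaNortonType (↥(Subgroup.centralizer (B : Set G)) ⧸ B.subgroupOf (Subgroup.centralizer (B : Set G))) := by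
  obtain ⟨e, ψ, b, rfl, S, hswap⟩ := exists_setup hM hsQ hs hs1 B hB hBp
  exact hn S hswap

end Cfsg.Agent.Spor.Leech.FiveFix

end
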